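import Cfsg.Agent.H344.S8.HSSolv
import Cfsg.Agent.H670.S8.SharpEng2
import Cfsg.Agent.H678.S8.HSCount
import Cfsg.Agent.H715.Fpr.HS
import Cfsg.Agent.H757.WkHSThree
import Cfsg.Agent.M23Order.Base

/-!
# The row FROB of S4908 for the Higman–Sims group (helper581)

`chiefS_HS`: `ChiefS 2 D X` for all `D` with `Deg 2 X D`, by the kernel test of helper670 (`SharpEng2`).
-/

set_option autoImplicit false
set_option maxRecDepth 100000

universe u v

namespace Cfsg.Agent.H581.S8.HS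

open Cfsg Subgroup Equiv Cfsg.Agent.HN.HS100 Cfsg.Agent.HN.Pres Cfsg.Agent.SporadicA.PermTab
open Cfsg.Agent.H922.Ore.Gr Cfsg.Agent.H922.Ore.HS Cfsg.Agent.H344.S8.HS Cfsg.Agent.H670.S8
open Cfsg.Agent.H447.CTab Cfsg.Agent.H424.DegTools Cfsg.Agent.Characters
open Cfsg.Agent.H940.Eng Cfsg.Agent.H940.Eng.D Cfsg.Agent.H704.S8

theorem bnd_mul : ∀ i : Fin 21, sz i * bnd (Cfsg.Agent.H922.Ore.HS.D i).L = 88704000 := by decide +kernel

/-- the centralizers in `Aut HS` -/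
theorem card_cent_R {i : Fin 21} {x : φ.range} (hxQ : (x : Perm (Fin 100)) ∈ Q)
    (hx : Acts (x : Perm (Fin 100)) [(Cfsg.Agent.H922.Ore.HS.D i).X]) :
    Nat.card ↥(Subgroup.centralizer ({x} : Set φ.range)) = bnd (Cfsg.Agent.H922.Ore.HS.D i).L := by
  refine le_antisymm (Cfsg.Agent.H344.S8.HS.card_cent_le hx) ?_
  have h1 := card_class (G := φ.range) x
  have key : ∀ y : φ.range, IsConj x y → ∃ hy : (y : Perm (Fin 100)) ∈ Q, cl ⟨y, hy⟩ = i := by
    intro y hy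
    obtain ⟨c, hc⟩ := isConj_iff.1 hy
    have e : (y : Perm (Fin 100)) = c * x * (c : Perm (Fin 100))⁻¹ := (congrArg Subtype.val hc).symm
    have hyQ : (y : Perm (Fin 100)) ∈ Q := by
      rw [e]
      exact norm_Q c c.2 x hxQ
    exact ⟨hyQ, cl_eq ((inv_conj (range_le c.2) e).trans (inv_of i hx))⟩
  have h3 : Nat.card {y : φ.range // IsConj x y} ≤ sz i := by
    rw [← card_fib i]
    refine Nat.card_le_card_of_injective
      (fun y : {y : φ.range // IsConj x y} => (⟨⟨y.1, (key y.1 y.2).1⟩, (key y.1 y.2).2⟩ : {g : Q // cl g = i})) ?_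
    intro y z hyz
    apply Subtype.ext
    apply Subtype.ext
    exact congrArg (fun t : {g : Q // cl g = i} => ((t : Q) : Perm (Fin 100))) hyz
  have h4 := bnd_mul i
  rw [card_R] at h1
  have h5 : 0 < sz i := by
    rcases Nat.eq_zero_or_pos (sz i) with h | h
    · rw [h, zero_mul] at h4; exact absurd h4 (by norm_num)
    · exact h
  refine Nat.le_of_mul_le_mul_left ?_ h5
  rw [h4, ← h1]
  exact Nat.mul_le_mul_right _ h3

/-- orders and centralizers in `HS` -/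
theorem cent_dvd (g : Q) : ∃ i : Fin 21, orderOf g = Cfsg.Agent.H678.S8.HS.ords i ∧
    Nat.card (centralizer ({g} : Set Q)) ∣ bnd (Cfsg.Agent.H922.Ore.HS.D i).L := by
  obtain ⟨i, x, hxQ, hxA, c, hc, he⟩ := cov_Q g g.2
  refine ⟨i, ?_, ?_⟩
  · rw [← Subgroup.orderOf_coe, he]
    have h1 : orderOf (c * x * c⁻¹) = orderOf x :=
      orderOf_injective (MulAut.conj c).toMonoidHom (MulAut.conj c).injective x
    rw [h1]
    exact Cfsg.Agent.H678.S8.orderOf_of_ordB hxA (Cfsg.Agent.H678.S8.HS.ords_ok i)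
  · have h2 := card_cent_R (x := ⟨x, Q_le_range hxQ⟩) hxQ hxA
    have h3 : Subgroup.inclusion Q_le_range g = (⟨c, hc⟩ : φ.range) * ⟨x, Q_le_range hxQ⟩ * (⟨c, hc⟩ : φ.range)⁻¹ :=
      Subtype.ext he
    have h4 : Nat.card (centralizer ({Subgroup.inclusion Q_le_range g} : Set φ.range)) =
        bnd (Cfsg.Agent.H922.Ore.HS.D i).L := by
      rw [h3, Cfsg.Agent.H904.HSCent.card_centralizer_conj, h2]
    rw [← h4, Nat.card_congr ((centralizer ({g} : Set Q)).equivMapOfInjective (Subgroup.inclusion Q_le_range)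
      (Subgroup.inclusion_injective Q_le_range)).toEquiv]
    refine card_dvd_of_le ?_
    rintro _ ⟨z, hz, rfl⟩
    have h5 := mem_centralizer_singleton_iff.1 hz
    exact mem_centralizer_singleton_iff.2 (by rw [← map_mul, h5, map_mul])

theorem iso_Q : Spor.IsoHS Q := Cfsg.Agent.HN.AutHS.nonempty_Q.1

theorem cloc11 : CLoc Q (11, [11]) :=
  ⟨by norm_num, fun _ hg => ⟨11, by simp, (Cfsg.Agent.H904.HSIso.card_eleven iso_Q hg).dvd⟩⟩

theorem cloc7 : CLoc Q (7, [7]) :=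
  ⟨by norm_num, fun _ hg => ⟨7, by simp, (Cfsg.Agent.H904.HSIso.card_seven iso_Q hg).dvd⟩⟩

theorem cloc3 : CLoc Q (3, [360, 240, 144]) := by
  refine ⟨by norm_num, fun g hg => ?_⟩
  obtain ⟨D, ψ, R⟩ := Cfsg.Agent.H904.HSCent.exists_rep iso_Q
  obtain ⟨x, z, hx, hz, hxz, hzx, h1, h2, h3, -, h4⟩ := Cfsg.Agent.H757.WkHSThree.three R
  have h27 : ¬ 27 ∣ Nat.card Q := by rw [card_Q]; norm_num
  have h5 := Cfsg.Agent.H757.WkGrp.card_cent_of_sylow h27 hx hz hxz hzx h1 h2 h3 hg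
  obtain ⟨i, h6, h7⟩ := cent_dvd g
  have key : ∀ i, Cfsg.Agent.H678.S8.HS.ords i = 3 → bnd (Cfsg.Agent.H922.Ore.HS.D i).L = 720 := by decide +kernel
  rw [key i (by rw [← h6]; exact hg)] at h7
  rw [← h5] at h4
  have key2 : ∀ c ∈ List.range 361, (720 % c == 0) = true →
      ([360, 240, 144].any fun d => Nat.beq (d % c) 0) = true := by decide +kernel
  have h8 := key2 _ (List.mem_range.2 (Nat.lt_succ_of_le h4)) (by rw [Nat.mod_eq_zero_of_dvd h7]; rfl)
  rw [List.any_eq_true] at h8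
  obtain ⟨c, hc, h9⟩ := h8
  exact ⟨c, hc, Nat.dvd_of_mod_eq_zero (Nat.eq_of_beq_eq_true h9)⟩

theorem cloc5 : CLoc Q (5, [1000, 600, 50]) := by
  refine ⟨by norm_num, fun g hg => ?_⟩
  obtain ⟨i, h1, h2⟩ := cent_dvd g
  have key : ∀ i, Cfsg.Agent.H678.S8.HS.ords i = 5 →
      ([1000, 600, 50].any fun c => Nat.beq (c % bnd (Cfsg.Agent.H922.Ore.HS.D i).L) 0) = true := by decide +kernel
  have h3 := key i (by rw [← h1]; exact hg)
  rw [List.any_eq_true] at h3
  obtain ⟨c, hc, h4⟩ := h3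
  exact ⟨c, hc, h2.trans (Nat.dvd_of_mod_eq_zero (Nat.eq_of_beq_eq_true h4))⟩

theorem cloc2 : CLoc2 Q (2, 512, [32]) := by
  obtain ⟨x, hxQ, hxA⟩ := exists_x 14
  have ho : orderOf x = 8 := Cfsg.Agent.H678.S8.orderOf_of_ordB hxA (Cfsg.Agent.H678.S8.HS.ords_ok 14)
  have h2 : Nat.card (centralizer ({(⟨x, hxQ⟩ : Q)} : Set Q)) ∣ 32 := by
    have h3 := card_cent_R (i := 14) (x := ⟨x, Q_le_range hxQ⟩) hxQ hxA
    have h4 : bnd (Cfsg.Agent.H922.Ore.HS.D 14).L = 32 := by decide +kernel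
    rw [← h4, ← h3, Nat.card_congr ((centralizer ({(⟨x, hxQ⟩ : Q)} : Set Q)).equivMapOfInjective
      (Subgroup.inclusion Q_le_range) (Subgroup.inclusion_injective Q_le_range)).toEquiv]
    refine card_dvd_of_le ?_
    rintro _ ⟨z, hz, rfl⟩
    have h5 := mem_centralizer_singleton_iff.1 hz
    refine mem_centralizer_singleton_iff.2 (Subtype.ext ?_)
    exact congrArg (fun t : Q => (t : Perm (Fin 100))) h5
  have h3 := cloc2_sylow (X := Q) (p := 2) (a := 9) Nat.prime_two (by rw [card_Q]; norm_num) (g := ⟨x, hxQ⟩)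
    ⟨3, by rw [← Subgroup.orderOf_coe]; exact ho⟩ h2
  exact h3

/-- the local data -/
def cls : List (ℕ × ℕ × List ℕ) := [(11, 11, [11]), (7, 7, [7]), (5, 5, [1000, 600, 50]), (3, 3, [360, 240, 144]), (2, 512, [32])]

theorem hcls : ∀ x ∈ cls, CLoc2 Q x := by
  intro x hx
  simp only [cls, List.mem_cons, List.not_mem_nil, or_false] at hx
  rcases hx with rfl | rfl | rfl | rfl | rfl
  · exact cloc2_of cloc11
  · exact cloc2_of cloc7
  · exact cloc2_of cloc5
  · exact cloc2_of cloc3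
  · exact cloc2

/-- a superset of the degrees of `HS` and of `Aut HS` -/
def adm : List ℕ := [1, 22, 77, 126, 154, 175, 231, 252, 308, 616, 693, 770, 825, 896, 924, 1050, 1056, 1232, 1260, 1386,
  1408, 1540, 1750, 1792, 1848, 1925, 2100, 2520, 2750, 3200, 3850, 5040]

theorem adm_eq : 1 :: C.map (·.1) = adm := by decide +kernel

/-- a superset of the degrees of `HS` different from `1` -/
def admX : List ℕ := [3200, 2750, 2520, 1925, 1750, 1408, 1386, 1260, 1056, 1050, 924, 896, 825, 770, 693, 616, 231, 175,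
  154, 126, 77, 22]

theorem sub_admX : ∀ d ∈ 1 :: (LV ++ LX), d ≠ 1 → d ∈ admX := by decide +kernel

theorem hadmX : ∀ ξ : IrrCharacter Q, (ξ : Q → ℂ) ≠ (fun _ => 1) → charDegree (ξ : Q → ℂ) ∈ admX := by
  intro ξ hξ
  have hs : IsSimpleGroup Q := Cfsg.Agent.HN.AutHS.nonempty_Q.2
  refine sub_admX _ (deg_Q ⟨ξ, rfl⟩) fun h1 => hξ ?_
  have hp : ¬ (Nat.card Q).Prime := by rw [card_Q]; norm_num
  exact Cfsg.Agent.M23Order.Base.coe_eq_one_of_dg (MTwelve.SmallDegree.commutator_eq_top_of_card hp) h1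

theorem chk : allD (stest2 l_hs n_hs 2 1 cls adm admX 154 [] 10 Cfsg.Agent.H715.Fpr.HS.loc o_hs) l_hs 1 = true := by
  decide +kernel

/-- the model -/
theorem chiefS_Q (B : Base) {D : Set ℕ} (hD : Deg 2 Q D) : ChiefS.{u} 2 D Q :=
  chiefS_of_check2 (Cfsg.Agent.H715.Fpr.HS.ctx B iso_Q) (by norm_num) hcls (adm := adm)
    (fun d hd => by rw [← adm_eq]; exact charDegrees_sub iso_Q hD d hd) (by decide +kernel) hadmX (by decide +kernel) chk

/-- **FROB for `HS`** -/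
theorem chiefS (B : Base) {X : Type v} [Group X] (h : Spor.IsoHS X) {D : Set ℕ} (hD : Deg 2 X D) : ChiefS.{u} 2 D X := by
  obtain ⟨e⟩ := equivQ h
  refine ChiefS.congr e.symm (chiefS_Q B ?_)
  rcases hD with rfl | ⟨-, rfl⟩
  · exact Or.inl (charDegrees_congr e)
  · exact Or.inr ⟨rfl, charDegrees_congr (MulAut.congr e)⟩

end Cfsg.Agent.H581.S8.HS
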